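import Cfsg.Agent.H939.L16.Def

/-!
# S5916: coefficients of brackets in frame coordinates, by lists (helper834)

* `ev nu l` : the vector `∑ nu v ^ e • e_r` of a list of triples `(r, v, e)`;
* `ev_F`, `ev_ta`, `ev_iz`, `ev_T` : the operators `Fp`, `ta`, `iz` on lists;
* `cf_br` : the coordinate of a bracket.
-/

set_option autoImplicit false
set_option maxRecDepth 100000

namespace Cfsg.Agent.H834.L16

open Cfsg Cfsg.Lie
open Cfsg.Agent.H939.L64 (KK LK brK)
open Cfsg.Agent.H413.L16 (er hv hr tg br_rr br_neg tg_le chain_mod er_ge er_of nr)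
open Cfsg.Agent.H939.L16 (Ops xl iz wi)

/-! ### normalization of lists modulo two -/

section norm

variable {α : Type} [DecidableEq α]

def ins (t : α) (l : List α) : List α := if t ∈ l then l.erase t else t :: l

def nrm (l : List α) : List α := l.foldr ins []

theorem sum_ins {M : Type*} [AddCommMonoid M] (h2 : ∀ x : M, x + x = 0) (f : α → M) (t : α) (l : List α) :
    ((ins t l).map f).sum = f t + (l.map f).sum := by
  unfold ins
  split_ifs with h
  · have h1 := ((List.perm_cons_erase h).map f).sum_eq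
    rw [h1, List.map_cons, List.sum_cons, ← add_assoc, h2, zero_add]
  · rw [List.map_cons, List.sum_cons]

theorem sum_nrm {M : Type*} [AddCommMonoid M] (h2 : ∀ x : M, x + x = 0) (f : α → M) (l : List α) :
    ((nrm l).map f).sum = (l.map f).sum := by
  induction l with
  | nil => rfl
  | cons t l ih =>
    show ((ins t (nrm l)).map f).sum = _
    rw [sum_ins h2, ih, List.map_cons, List.sum_cons]

end norm

theorem kk2 (x : KK) : x + x = 0 := by
  have h := Cfsg.Agent.H876.L64.two_zero
  rw [← two_mul, h, zero_mul]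

theorem lk2 (x : LK) : x + x = 0 := by
  rw [← two_smul KK x, Cfsg.Agent.H876.L64.two_zero, zero_smul]

theorem bal (u v w : LK) : brK (u + v) w = brK u w + brK v w := Cfsg.Agent.H971.RV.br_add_left u v w
theorem bar (u v w : LK) : brK u (v + w) = brK u v + brK u w := Cfsg.Agent.H971.RV.br_add_right u v w
theorem bsl (c : KK) (v w : LK) : brK (c • v) w = c • brK v w := Cfsg.Agent.H971.RV.br_smul_left c v w
theorem bsr (c : KK) (v w : LK) : brK v (c • w) = c • brK v w := Cfsg.Agent.H971.RV.br_smul_right c v w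
theorem b0r (v : LK) : brK v 0 = 0 := by
  have h := bsr 0 v 0
  rwa [zero_smul, zero_smul] at h
theorem b0l (v : LK) : brK 0 v = 0 := by
  have h := bsl 0 0 v
  rwa [zero_smul, zero_smul] at h

/-! ### vectors -/

/-- `(r, v, e)` : `nu v ^ e • e_r` -/
noncomputable def tv (nu : ℕ → KK) (t : ℕ × ℕ × ℕ) : LK := nu t.2.1 ^ t.2.2 • er t.1

/-- the vector of a list -/
noncomputable def ev (nu : ℕ → KK) (l : List (ℕ × ℕ × ℕ)) : LK := (l.map (tv nu)).sum

theorem ev_nil (nu : ℕ → KK) : ev nu [] = 0 := rfl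

theorem ev_cons (nu : ℕ → KK) (t : ℕ × ℕ × ℕ) (l : List (ℕ × ℕ × ℕ)) : ev nu (t :: l) = tv nu t + ev nu l := by
  unfold ev; rw [List.map_cons, List.sum_cons]

theorem ev_append (nu : ℕ → KK) (l l' : List (ℕ × ℕ × ℕ)) : ev nu (l ++ l') = ev nu l + ev nu l' := by
  unfold ev; rw [List.map_append, List.sum_append]

theorem ev_nrm (nu : ℕ → KK) (l : List (ℕ × ℕ × ℕ)) : ev nu (nrm l) = ev nu l := sum_nrm lk2 _ l

/-- the indices are roots -/
def ok (l : List (ℕ × ℕ × ℕ)) : Bool := l.all fun t => Nat.ble (t.1 + 1) 240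

theorem ok_cons {t : ℕ × ℕ × ℕ} {l : List (ℕ × ℕ × ℕ)} (h : ok (t :: l) = true) : t.1 < 240 ∧ ok l = true := by
  unfold ok at h
  rw [List.all_cons, Bool.and_eq_true] at h
  exact ⟨Nat.le_of_ble_eq_true h.1, h.2⟩

/-- the list of `Fp v` -/
def Fl (l : List (ℕ × ℕ × ℕ)) : List (ℕ × ℕ × ℕ) := l.map fun t => (wi t.1, t.2.1, 2 * t.2.2)

/-- the list of `ta v` -/
def tl (l : List (ℕ × ℕ × ℕ)) : List (ℕ × ℕ × ℕ) := l.map fun t => (wi (wi (wi (wi t.1))), t.2)

section ops

variable {Fp : LK → LK} {ta : LK →ₗ[KK] LK}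

theorem Fp_zero (h : Ops Fp ta) : Fp 0 = 0 := by
  have h1 := h.add 0 0
  rw [add_zero] at h1
  exact left_eq_add.1 h1

theorem ev_F (h : Ops Fp ta) (nu : ℕ → KK) {l : List (ℕ × ℕ × ℕ)} (hl : ok l = true) : Fp (ev nu l) = ev nu (Fl l) := by
  induction l with
  | nil => exact Fp_zero h
  | cons t l ih =>
    obtain ⟨h1, h2⟩ := ok_cons hl
    rw [ev_cons, h.add, ih h2]
    show _ = ev nu ((wi t.1, t.2.1, 2 * t.2.2) :: Fl l)
    rw [ev_cons]
    congr 1
    unfold tv
    rw [h.smul, h.er _ h1, ← pow_mul, mul_comm]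

theorem ev_ta (h : Ops Fp ta) (nu : ℕ → KK) {l : List (ℕ × ℕ × ℕ)} (hl : ok l = true) : ta (ev nu l) = ev nu (tl l) := by
  induction l with
  | nil => exact map_zero ta
  | cons t l ih =>
    obtain ⟨h1, h2⟩ := ok_cons hl
    rw [ev_cons, map_add, ih h2]
    show _ = ev nu ((wi (wi (wi (wi t.1))), t.2) :: tl l)
    rw [ev_cons]
    congr 1
    unfold tv
    rw [map_smul, h.ter _ h1]

end ops

/-- the list of `x_r(1) v` -/
def xll (r : ℕ) (l : List (ℕ × ℕ × ℕ)) : List (ℕ × ℕ × ℕ) :=
  l.flatMap fun t => if Nat.beq (tg r t.1) 240 = true then [t] else [t, (tg r t.1, t.2)]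

def okx (r : ℕ) (l : List (ℕ × ℕ × ℕ)) : Bool := l.all fun t => Nat.ble (t.1 + 1) 240 && !(Nat.beq t.1 (239 - r))

theorem xl_add (r : Fin chevE8.nroots) (c : KK) (u v : LK) : xl r c (u + v) = xl r c u + xl r c v := by
  unfold xl
  rw [bar, smul_add, Pi.add_apply, mul_add, add_smul]
  abel

theorem xl_smul (r : Fin chevE8.nroots) (c a : KK) (v : LK) : xl r c (a • v) = a • xl r c v := by
  unfold xl
  rw [bsr, Pi.smul_apply, smul_eq_mul, smul_add, smul_add, smul_comm c a,
    show c ^ 2 * (a * v (Sum.inr r.rev)) = a * (c ^ 2 * v (Sum.inr r.rev)) by ring, mul_smul]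

theorem xl_zero (r : Fin chevE8.nroots) (c : KK) : xl r c 0 = 0 := by
  have h := xl_smul r c 0 0
  rwa [zero_smul, zero_smul] at h

theorem xl_er {r : ℕ} (hr : r < chevE8.nroots) {s : ℕ} (hs : s < 240) (hn : s ≠ 239 - r) :
    xl ⟨r, hr⟩ 1 (er s) = er s + er (tg r s) := by
  have hr' : r < 240 := by rw [← nr]; exact hr
  unfold xl
  have h1 : (er s) (Sum.inr (Fin.rev ⟨r, hr⟩)) = 0 := by
    have hs' : s < chevE8.nroots := by rw [nr]; exact hs
    rw [er_of hs']
    refine Pi.single_eq_of_ne ?_ _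
    intro h2
    have h3 := congrArg Fin.val (Sum.inr.inj h2)
    rw [Fin.val_rev] at h3
    have h4 := nr
    have h5 : chevE8.nroots - ((⟨r, hr⟩ : Fin chevE8.nroots) + 1) = s := h3
    have h6 : (((⟨r, hr⟩ : Fin chevE8.nroots)) : ℕ) = r := rfl
    rw [h6, h4] at h5
    omega
  rw [h1, mul_zero, zero_smul, add_zero, one_smul]
  show er s + brK (er r) (er s) = _
  rw [br_rr hr' hs hn]

theorem ev_xl (nu : ℕ → KK) {r : ℕ} (hr : r < chevE8.nroots) {l : List (ℕ × ℕ × ℕ)} (hl : okx r l = true) :
    xl ⟨r, hr⟩ 1 (ev nu l) = ev nu (xll r l) := by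
  induction l with
  | nil => exact xl_zero _ _
  | cons t l ih =>
    unfold okx at hl
    rw [List.all_cons, Bool.and_eq_true, Bool.and_eq_true] at hl
    have h1 : t.1 < 240 := Nat.le_of_ble_eq_true hl.1.1
    have h2 : t.1 ≠ 239 - r := by
      intro h
      have h3 := hl.1.2
      rw [h, Nat.beq_refl] at h3
      exact absurd h3 (by decide)
    rw [ev_cons, xl_add, ih hl.2]
    have h4 : xll r (t :: l) = (if Nat.beq (tg r t.1) 240 = true then [t] else [t, (tg r t.1, t.2)]) ++ xll r l := by
      unfold xll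
      rw [List.flatMap_cons]
    rw [h4, ev_append]
    congr 1
    have h5 : xl ⟨r, hr⟩ 1 (tv nu t) = tv nu t + nu t.2.1 ^ t.2.2 • er (tg r t.1) := by
      unfold tv
      rw [xl_smul, xl_er hr h1 h2, smul_add]
    rw [h5]
    by_cases h6 : Nat.beq (tg r t.1) 240 = true
    · rw [if_pos h6, Nat.eq_of_beq_eq_true h6, er_ge le_rfl, smul_zero, add_zero, ev_cons, ev_nil, add_zero]
    · rw [if_neg h6, ev_cons, ev_cons, ev_nil, add_zero]
      rfl

/-- the list of `iz v` -/
def izl (l : List (ℕ × ℕ × ℕ)) : List (ℕ × ℕ × ℕ) :=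
  nrm (xll 121 (nrm (xll 126 (nrm (xll 141 (nrm (xll 135 l)))))))

def okz (l : List (ℕ × ℕ × ℕ)) : Bool :=
  okx 135 l && okx 141 (nrm (xll 135 l)) && okx 126 (nrm (xll 141 (nrm (xll 135 l)))) &&
    okx 121 (nrm (xll 126 (nrm (xll 141 (nrm (xll 135 l))))))

theorem ev_iz (nu : ℕ → KK) {l : List (ℕ × ℕ × ℕ)} (hl : okz l = true) : iz (ev nu l) = ev nu (izl l) := by
  unfold okz at hl
  rw [Bool.and_eq_true, Bool.and_eq_true, Bool.and_eq_true] at hl
  obtain ⟨⟨⟨h1, h2⟩, h3⟩, h4⟩ := hl
  unfold iz izl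
  rw [ev_xl nu _ h1, ← ev_nrm nu (xll 135 l), ev_xl nu _ h2, ← ev_nrm nu (xll 141 _), ev_xl nu _ h3,
    ← ev_nrm nu (xll 126 _), ev_xl nu _ h4, ← ev_nrm nu (xll 121 _)]

/-- the list of `t0 v` -/
def Tl (l : List (ℕ × ℕ × ℕ)) : List (ℕ × ℕ × ℕ) := izl (tl l)

theorem ev_T {Fp : LK → LK} {ta : LK →ₗ[KK] LK} (h : Ops Fp ta) (nu : ℕ → KK) {l : List (ℕ × ℕ × ℕ)}
    (hl : ok l = true) (hz : okz (tl l) = true) : iz (ta (ev nu l)) = ev nu (Tl l) := by
  rw [ev_ta h nu hl, ev_iz nu hz]
  rfl

/-! ### packed coordinates of the roots -/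

/-- the packed coordinates of the 240 roots, 48 bits each -/
def KEYS : ℕ := 0x28b30d38c2ca24b30d38c2ca24a30d38c2ca24a2cd38c2ca24a2cc38c2ca24a2cc34c2ca24a2cc34b2ca24a2cc34c28a24a2cc34b28a24a2cc30b28a24a2cb30b28a24a28b30b28a24928b30b28a20928b30b28a24a2cc34b2c924a2cc34b28924a2cc30b28924a2cb30b28924a28b30b28924928b30b28920928b30b28924a2cc30a28924a2cb30a28924a28b30a28924928b30a28920928b30a28924a2cb2ca28924a28b2ca28924928b2ca28920928b2ca28924a28a2ca28924928a2ca28920928a2ca28924924a2ca28920924a2ca28920824a2ca28924a2cb2ca24924a28b2ca24924928b2ca24920928b2ca24924a28a2ca24924928a2ca24920928a2ca24924924a2ca24920924a2ca24920824a2ca24924a28a28a24924928a28a24920928a28a24924924a28a24920924a28a24920824a28a24924924928a24920924928a24920824928a24920820928a24924a28a28924924928a28924920928a28924924924a28924920924a28924920824a28924924924928924920924928924920824928924920820928924924924924924920924924924920824924924920820924924920820824924924924924920920924924920920824924920920820924920920820824920920820820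920920820820820924a28a28924824928a28924820928a28924824924a28924820924a28924820824a2892482492492892482092492892482082492892482082092892482492492492482092492492482082492492482082092492482082082492482492492482482092492482482082492482482082092482482082082482482082082082482492492492082092492492082082492492082082092492082082082492082082082092082492492482082092492482082082492482082082092482082082082482082492492082082092492082082082492082082082092082082492482082082092482082082082482082082492082082082092082082082482082082081c82082082082072082082081c72082082082081c82082082071c82082081c71c82082082082072082082081c72082082071c72082081c71c72082082082081c82082082071c82082081c71c82082071c71c82081c71c71c82082082082072082082081c72082082071c72082081c71c72082071c71c72081c71c71c72082082082081c82082081c81c82082071c81c82081c71c81c82071c71c81c81c71c71c81c82082081c71c82082071c71c82081c71c71c82071c71c71c81c71c71c71c82082071871c82081c71871c82071c71871c81c71c71871c82081c61871c82071c61871c81c71c61871c82071861871c81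c71861871c81c61861871c82082082082072082082072072082081c72072082071c72072081c71c72072071c71c72071c71c71c72072082081c71c72082071c71c72081c71c71c72071c71c71c71c71c71c71c72082071871c72081c71871c72071c71871c71c71c71871c72081c61871c72071c61871c71c71c61871c72071861871c71c71861871c71c61861871c72082071861c72081c71861c72071c71861c71c71c71861c72081c61861c72071c61861c71c71c61861c72071861861c71c71861861c71c61861861c72081c61461c72071c61461c71c71c61461c72071861461c71c71861461c71c61861461c72071851461c71c71851461c71c61851461c71c61451461c72081c61461872071c61461871c71c61461872071861461871c71861461871c61861461872071851461871c71851461871c61851461871c61451461872071851061871c71851061871c61851061871c61451061871c61441061872071851051871c71851051871c61851051871c61451051871c61441051871c61440c51871c61440c51472071851051861c71851051861c61851051861c61451051861c61441051861c61440c51861c61440c41861c61440c51461c61440c41461c61440841461c61430841461c61030841461c5103084146185103084146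

def ky (s : ℕ) : ℕ := (KEYS >>> (48 * s)) % 281474976710656

/-- the packed zero vector -/
def K0 : ℕ := 35742854185480

theorem ky_ok : ((List.range 240).all fun r => (Cfsg.Agent.H413.L16.row r).all fun e =>
    Nat.beq (ky r + ky e.1) (ky (e.2.getD 0 (240, 0)).1 + K0)) = true := by decide +kernel

theorem tg_key {r s : ℕ} (hr : r < 240) (h : tg r s < 240) : ky r + ky s = ky (tg r s) + K0 := by
  have h1 := List.all_eq_true.1 ky_ok r (List.mem_range.2 hr)
  unfold tg at h ⊢
  cases hf : (Cfsg.Agent.H413.L16.row r).find? (fun e => e.1 == s) with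
  | none =>
    rw [hf] at h
    exact absurd h (by simp)
  | some e =>
    have he := List.mem_of_find?_eq_some hf
    have hes : e.1 = s := by simpa using List.find?_some hf
    have h2 := Nat.eq_of_beq_eq_true (List.all_eq_true.1 h1 e he)
    rw [hes] at h2
    exact h2

/-! ### the coordinates of a bracket -/

/-- `nu a ^ e * nu b ^ f` -/
noncomputable def qt (nu : ℕ → KK) (q : (ℕ × ℕ) × (ℕ × ℕ)) : KK := nu q.1.1 ^ q.1.2 * nu q.2.1 ^ q.2.2

noncomputable def qv (nu : ℕ → KK) (q : List ((ℕ × ℕ) × (ℕ × ℕ))) : KK := (q.map (qt nu)).sum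

theorem qv_nrm (nu : ℕ → KK) (l : List ((ℕ × ℕ) × (ℕ × ℕ))) : qv nu (nrm l) = qv nu l := sum_nrm kk2 _ l

theorem qv_append (nu : ℕ → KK) (l l' : List ((ℕ × ℕ) × (ℕ × ℕ))) : qv nu (l ++ l') = qv nu l + qv nu l' := by
  unfold qv; rw [List.map_append, List.sum_append]

/-- the ordered pair -/
def srt (a b : ℕ × ℕ) : (ℕ × ℕ) × (ℕ × ℕ) := if Nat.ble (a.1 * 1000 + a.2) (b.1 * 1000 + b.2) = true then (a, b) else (b, a)

theorem qt_srt (nu : ℕ → KK) (a b : ℕ × ℕ) : qt nu (srt a b) = nu a.1 ^ a.2 * nu b.1 ^ b.2 := by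
  unfold srt qt
  split_ifs
  · rfl
  · exact mul_comm _ _

/-- the coordinate at the root `c` -/
def bl (c : ℕ) (l l' : List (ℕ × ℕ × ℕ)) : List ((ℕ × ℕ) × (ℕ × ℕ)) :=
  l.flatMap fun t => (l'.filter fun t' => Nat.beq (ky t.1 + ky t'.1) (ky c + K0) && Nat.beq (tg t.1 t'.1) c).map
    fun t' => srt t.2 t'.2

theorem er_inr {s c : ℕ} (hc : c < chevE8.nroots) : (er s) (Sum.inr ⟨c, hc⟩) = if s = c then 1 else 0 := by
  by_cases hs : s < chevE8.nroots
  · rw [er_of hs]
    by_cases h : s = c
    · subst h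
      rw [if_pos rfl, Pi.single_eq_same]
    · rw [if_neg h]
      exact Pi.single_eq_of_ne (fun h1 => h (congrArg Fin.val (Sum.inr.inj h1)).symm) _
  · rw [if_neg (by omega), er_ge (by rw [← nr]; omega)]
    rfl

theorem br_inr {r s c : ℕ} (hr : r < 240) (hs : s < 240) (hc : c < chevE8.nroots) :
    brK (er r) (er s) (Sum.inr ⟨c, hc⟩) = if tg r s = c then 1 else 0 := by
  have hc' : c < 240 := by rw [← nr]; exact hc
  by_cases hn : s = 239 - r
  · have h1 : tg r s ≠ c := by
      intro h
      exact ((chain_mod (s := s) (u := 0) hr).2.1 (by omega)).2.1 hn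
    rw [if_neg h1, hn, br_neg hr]
    rfl
  · rw [br_rr hr hs hn, er_inr]

theorem cf_br (nu : ℕ → KK) {c : ℕ} (hc : c < chevE8.nroots) {l l' : List (ℕ × ℕ × ℕ)} (hl : ok l = true)
    (hl' : ok l' = true) : brK (ev nu l) (ev nu l') (Sum.inr ⟨c, hc⟩) = qv nu (bl c l l') := by
  have key : ∀ (t : ℕ × ℕ × ℕ) (l' : List (ℕ × ℕ × ℕ)), t.1 < 240 → ok l' = true →
      brK (tv nu t) (ev nu l') (Sum.inr ⟨c, hc⟩) =
        qv nu ((l'.filter fun t' => Nat.beq (ky t.1 + ky t'.1) (ky c + K0) && Nat.beq (tg t.1 t'.1) c).map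
          fun t' => srt t.2 t'.2) := by
    intro t l' ht hl'
    induction l' with
    | nil =>
      rw [ev_nil, b0r]
      rfl
    | cons u l' ih =>
      obtain ⟨h1, h2⟩ := ok_cons hl'
      rw [ev_cons, bar, Pi.add_apply, ih h2]
      have h3 : brK (tv nu t) (tv nu u) (Sum.inr ⟨c, hc⟩) = if tg t.1 u.1 = c then qt nu (srt t.2 u.2) else 0 := by
        unfold tv
        rw [bsl, bsr, Pi.smul_apply, Pi.smul_apply, br_inr ht h1,
          qt_srt]
        split_ifs
        · rw [smul_eq_mul, smul_eq_mul, mul_one]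
        · rw [smul_zero, smul_zero]
      rw [h3]
      by_cases h4 : tg t.1 u.1 = c
      · have h5 := tg_key ht (s := u.1) (by rw [h4, ← nr]; exact hc)
        rw [h4] at h5
        rw [if_pos h4, List.filter_cons_of_pos (by rw [h4, h5, Nat.beq_refl, Nat.beq_refl]; rfl), List.map_cons]
        unfold qv
        rw [List.map_cons, List.sum_cons]
      · rw [if_neg h4, zero_add, List.filter_cons_of_neg (by
          intro h5
          rw [Bool.and_eq_true] at h5
          exact h4 (Nat.eq_of_beq_eq_true h5.2))]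
  induction l with
  | nil =>
    rw [ev_nil, b0l]
    rfl
  | cons t l ih =>
    obtain ⟨h1, h2⟩ := ok_cons hl
    rw [ev_cons, bal, Pi.add_apply, ih h2, key t l' h1 hl']
    have h4 : bl c (t :: l) l' = ((l'.filter fun t' => Nat.beq (ky t.1 + ky t'.1) (ky c + K0) &&
        Nat.beq (tg t.1 t'.1) c).map fun t' => srt t.2 t'.2) ++ bl c l l' := by
      unfold bl
      rw [List.flatMap_cons]
    rw [h4, qv_append]

end Cfsg.Agent.H834.L16
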